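import Mathlib.CategoryTheory.Abelian.Exact
import Mathlib.Algebra.Homology.ShortComplex.ShortExact
import Mathlib.Algebra.Homology.ShortComplex.ModuleCat
import Mathlib.Algebra.Category.ModuleCat.Abelian

/-!
# Gluing hits along a square `Y → Y₁, Y₂ → Y₁₂` (abstract half of OverZ, S16912)
-/

set_option autoImplicit false

universe w v u

open CategoryTheory CategoryTheory.Limits

namespace Groth.Agent.ResProp.EF.K351

set_option linter.unusedSectionVars false

variable {K : Type v} [Category.{w} K] [Abelian K] {R : Type u} [CommRing R]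
  (h : K ⥤ ModuleCat.{u} R) [h.Additive]

/-- `h` is exact in the middle. -/
def MidExact : Prop := ∀ S : ShortComplex K, S.ShortExact → ∀ x : h.obj S.X₂, (h.map S.g).hom x = 0 →
  ∃ y : h.obj S.X₁, (h.map S.f).hom y = x

variable {h}

lemma MidExact.kernel (hex : MidExact h) {X Y : K} (f : X ⟶ Y) [Epi f] (x : h.obj X) (hx : (h.map f).hom x = 0) :
    ∃ y : h.obj (kernel f), (h.map (kernel.ι f)).hom y = x := by
  let S : ShortComplex K := ShortComplex.mk (kernel.ι f) f (kernel.condition f)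
  have hS : S.ShortExact :=
    { exact := S.exact_of_f_is_kernel (kernelIsKernel f)
      mono_f := inferInstanceAs (Mono (kernel.ι f))
      epi_g := inferInstanceAs (Epi f) }
  exact hex S hS x hx

lemma map_comp_apply {X Y Z : K} (f : X ⟶ Y) (g : Y ⟶ Z) (x : h.obj X) :
    (h.map (f ≫ g)).hom x = (h.map g).hom ((h.map f).hom x) := by
  rw [h.map_comp]; rfl

lemma map_zero_apply {X Y : K} (x : h.obj X) : (h.map (0 : X ⟶ Y)).hom x = 0 := by
  rw [h.map_zero]; rfl

lemma map_neg_apply {X Y : K} (f : X ⟶ Y) (x : h.obj X) : (h.map (-f)).hom x = -(h.map f).hom x := by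
  rw [h.map_neg]; rfl

lemma map_id_apply {X : K} (x : h.obj X) : (h.map (𝟙 X)).hom x = x := by
  rw [h.map_id]; rfl

theorem glue_abs (hex : MidExact h)
    {Y Y₁ Y₂ Y₁₂ : K} (α₁ : Y ⟶ Y₁) (α₂ : Y ⟶ Y₂) (b₁ : Y₁ ⟶ Y₁₂) (b₂ : Y₂ ⟶ Y₁₂)
    (w : biprod.lift α₁ α₂ ≫ biprod.desc b₁ (-b₂) = 0)
    (hS : (ShortComplex.mk (biprod.lift α₁ α₂) (biprod.desc b₁ (-b₂)) w).ShortExact)
    (hinj : ∀ y : h.obj Y, (h.map α₁).hom y = 0 → (h.map α₂).hom y = 0 → y = 0) (y : h.obj Y)
    {T₁ T₁Q : K} (f₁ : T₁ ⟶ Y₁) [Epi f₁] (l : T₁ ⟶ T₁Q) (f₁Q : T₁Q ⟶ Y₁₂) [Epi f₁Q]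
    (sq : l ≫ f₁Q = f₁ ≫ b₁) (t₁ : h.obj T₁) (ht₁ : (h.map f₁).hom t₁ = (h.map α₁).hom y)
    (Good : K → Prop)
    (HW : ∀ z : h.obj (kernel (biprod.desc f₁Q (-b₂))), ∃ (T₂ : K) (f₂ : T₂ ⟶ kernel (biprod.desc f₁Q (-b₂)))
      (_ : Epi f₂) (t₂ : h.obj T₂), Good T₂ ∧ (h.map f₂).hom t₂ = z) :
    ∃ (T₂ : K) (_ : Good T₂) (d : T₁ ⊞ T₂ ⟶ T₁Q) (_ : Epi d) (f : kernel d ⟶ Y) (t : h.obj (kernel d)),
      (h.map f).hom t = y := by
  have comm : α₁ ≫ b₁ = α₂ ≫ b₂ := by
    have := w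
    rw [biprod.lift_desc, Preadditive.comp_neg, ← sub_eq_add_neg, sub_eq_zero] at this
    exact this
  -- the object `W`
  set dW : T₁Q ⊞ Y₂ ⟶ Y₁₂ := biprod.desc f₁Q (-b₂) with hdW
  have hdWe : Epi dW := by
    have h1 : biprod.inl ≫ dW = f₁Q := by rw [hdW, biprod.inl_desc]
    have : Epi (biprod.inl ≫ dW) := by rw [h1]; infer_instance
    exact epi_of_epi biprod.inl dW
  let x : h.obj (T₁Q ⊞ Y₂) := (h.map biprod.inl).hom ((h.map l).hom t₁) + (h.map biprod.inr).hom ((h.map α₂).hom y)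
  have hx : (h.map dW).hom x = 0 := by
    change (h.map dW).hom ((h.map biprod.inl).hom ((h.map l).hom t₁) +
      (h.map biprod.inr).hom ((h.map α₂).hom y)) = 0
    rw [map_add, ← map_comp_apply, ← map_comp_apply biprod.inr, hdW, biprod.inl_desc, biprod.inr_desc, map_neg_apply,
      ← map_comp_apply, sq, map_comp_apply, ht₁, ← map_comp_apply, ← map_comp_apply, comm, add_neg_cancel]
  obtain ⟨z, hz⟩ := hex.kernel dW x hx
  obtain ⟨T₂, f₂, hf₂, t₂, hG, ht₂⟩ := HW z
  let m : T₂ ⟶ T₁Q := f₂ ≫ kernel.ι dW ≫ biprod.fst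
  let d : T₁ ⊞ T₂ ⟶ T₁Q := biprod.desc l (-m)
  have hde : Epi d := by
    rw [Preadditive.epi_iff_cancel_zero]
    intro Z g hg
    have hg1 : l ≫ g = 0 := by
      have := biprod.inl ≫= hg
      rw [← Category.assoc, biprod.inl_desc, comp_zero] at this
      exact this
    have hg2 : kernel.ι dW ≫ biprod.fst ≫ g = 0 := by
      have := biprod.inr ≫= hg
      rw [← Category.assoc, biprod.inr_desc, comp_zero, Preadditive.neg_comp, neg_eq_zero] at this
      rw [← cancel_epi f₂, comp_zero]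
      simpa only [m, Category.assoc] using this
    let SW : ShortComplex K := ShortComplex.mk (kernel.ι dW) dW (kernel.condition dW)
    have hSW : SW.Exact := SW.exact_of_f_is_kernel (kernelIsKernel dW)
    have : Epi SW.g := hdWe
    obtain ⟨g', hg'⟩ : ∃ g' : Y₁₂ ⟶ Z, dW ≫ g' = biprod.fst ≫ g :=
      ⟨hSW.desc (biprod.fst ≫ g) hg2, hSW.g_desc (biprod.fst ≫ g) hg2⟩
    have e1 : f₁Q ≫ g' = g := by
      have := biprod.inl ≫= hg'
      rw [← Category.assoc, hdW, biprod.inl_desc, biprod.inl_fst_assoc] at this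
      exact this
    have e2 : b₂ ≫ g' = 0 := by
      have := biprod.inr ≫= hg'
      rw [← Category.assoc, hdW, biprod.inr_desc, biprod.inr_fst_assoc, zero_comp, Preadditive.neg_comp,
        neg_eq_zero] at this
      exact this
    have e3 : b₁ ≫ g' = 0 := by
      rw [← cancel_epi f₁, comp_zero, ← Category.assoc, ← sq, Category.assoc, e1, hg1]
    have e4 : biprod.desc b₁ (-b₂) ≫ g' = 0 := by
      apply biprod.hom_ext'
      · rw [biprod.inl_desc_assoc, e3, comp_zero]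
      · rw [biprod.inr_desc_assoc, Preadditive.neg_comp, e2, neg_zero, comp_zero]
    have : Epi (biprod.desc b₁ (-b₂)) := hS.epi_g
    have e5 : g' = 0 := by rwa [← cancel_epi (biprod.desc b₁ (-b₂)), comp_zero]
    rw [← e1, e5, comp_zero]
  -- the lift to `Y`
  let u : kernel d ⟶ Y₁ ⊞ Y₂ := kernel.ι d ≫ biprod.map f₁ (f₂ ≫ kernel.ι dW ≫ biprod.snd)
  have hd0 : kernel.ι d ≫ biprod.fst ≫ l = kernel.ι d ≫ biprod.snd ≫ m := by
    have h0 : kernel.ι d ≫ d = 0 := kernel.condition d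
    have h1 : d = biprod.fst ≫ l - biprod.snd ≫ m := by
      change biprod.desc l (-m) = _
      apply biprod.hom_ext'
      · simp
      · simp
    have h2 : kernel.ι d ≫ (biprod.fst ≫ l - biprod.snd ≫ m) = 0 := by rw [← h1]; exact h0
    rw [Preadditive.comp_sub, sub_eq_zero] at h2
    exact h2
  have hW0 : kernel.ι dW ≫ biprod.fst ≫ f₁Q = kernel.ι dW ≫ biprod.snd ≫ b₂ := by
    have h0 : kernel.ι dW ≫ dW = 0 := kernel.condition dW
    have h1 : dW = biprod.fst ≫ f₁Q - biprod.snd ≫ b₂ := by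
      rw [hdW]
      apply biprod.hom_ext'
      · simp
      · simp
    have h2 : kernel.ι dW ≫ (biprod.fst ≫ f₁Q - biprod.snd ≫ b₂) = 0 := by rw [← h1]; exact h0
    rw [Preadditive.comp_sub, sub_eq_zero] at h2
    exact h2
  have hu : u ≫ biprod.desc b₁ (-b₂) = 0 := by
    have h1 : biprod.map f₁ (f₂ ≫ kernel.ι dW ≫ biprod.snd) ≫ biprod.desc b₁ (-b₂) =
        biprod.fst ≫ f₁ ≫ b₁ - biprod.snd ≫ f₂ ≫ kernel.ι dW ≫ biprod.snd ≫ b₂ := by
      apply biprod.hom_ext'
      · simp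
      · simp
    change (kernel.ι d ≫ biprod.map f₁ _) ≫ _ = 0
    rw [Category.assoc, h1, Preadditive.comp_sub, ← sq, ← hW0, sub_eq_zero]
    have := hd0 =≫ f₁Q
    simpa only [m, Category.assoc] using this
  have hmono : Mono (biprod.lift α₁ α₂) := hS.mono_f
  let f : kernel d ⟶ Y := hS.exact.lift u hu
  have hf : f ≫ biprod.lift α₁ α₂ = u := hS.exact.lift_f u hu
  -- the class
  let x' : h.obj (T₁ ⊞ T₂) := (h.map biprod.inl).hom t₁ + (h.map biprod.inr).hom t₂
  have hzf : (h.map biprod.fst).hom ((h.map (kernel.ι dW)).hom z) = (h.map l).hom t₁ := by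
    rw [hz]
    change (h.map biprod.fst).hom ((h.map biprod.inl).hom ((h.map l).hom t₁) +
      (h.map biprod.inr).hom ((h.map α₂).hom y)) = _
    rw [map_add, ← map_comp_apply, ← map_comp_apply biprod.inr, biprod.inl_fst, biprod.inr_fst, map_id_apply,
      map_zero_apply, add_zero]
  have hzs : (h.map biprod.snd).hom ((h.map (kernel.ι dW)).hom z) = (h.map α₂).hom y := by
    rw [hz]
    change (h.map biprod.snd).hom ((h.map biprod.inl).hom ((h.map l).hom t₁) +
      (h.map biprod.inr).hom ((h.map α₂).hom y)) = _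
    rw [map_add, ← map_comp_apply, ← map_comp_apply biprod.inr, biprod.inl_snd, biprod.inr_snd, map_id_apply,
      map_zero_apply, zero_add]
  have hx' : (h.map d).hom x' = 0 := by
    change (h.map (biprod.desc l (-m))).hom ((h.map biprod.inl).hom t₁ + (h.map biprod.inr).hom t₂) = 0
    rw [map_add, ← map_comp_apply, ← map_comp_apply biprod.inr, biprod.inl_desc, biprod.inr_desc, map_neg_apply]
    change (h.map l).hom t₁ + -(h.map (f₂ ≫ kernel.ι dW ≫ biprod.fst)).hom t₂ = 0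
    rw [map_comp_apply, ht₂, map_comp_apply, hzf, add_neg_cancel]
  obtain ⟨t, ht⟩ := hex.kernel d x' hx'
  refine ⟨T₂, hG, d, hde, f, t, ?_⟩
  have key : (h.map u).hom t = (h.map biprod.inl).hom ((h.map α₁).hom y) +
      (h.map biprod.inr).hom ((h.map α₂).hom y) := by
    change (h.map (kernel.ι d ≫ biprod.map f₁ (f₂ ≫ kernel.ι dW ≫ biprod.snd))).hom t = _
    rw [map_comp_apply, ht]
    change (h.map (biprod.map f₁ (f₂ ≫ kernel.ι dW ≫ biprod.snd))).hom
      ((h.map biprod.inl).hom t₁ + (h.map biprod.inr).hom t₂) = _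
    rw [map_add, ← map_comp_apply, ← map_comp_apply biprod.inr, biprod.inl_map, biprod.inr_map, map_comp_apply,
      map_comp_apply, ht₁, map_comp_apply, ht₂, map_comp_apply, hzs]
  have h1 : (h.map α₁).hom ((h.map f).hom t) = (h.map α₁).hom y := by
    have e : f ≫ α₁ = u ≫ biprod.fst := by rw [← hf, Category.assoc, biprod.lift_fst]
    rw [← map_comp_apply, e, map_comp_apply, key, map_add, ← map_comp_apply, ← map_comp_apply biprod.inr,
      biprod.inl_fst, biprod.inr_fst, map_id_apply, map_zero_apply, add_zero]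
  have h2 : (h.map α₂).hom ((h.map f).hom t) = (h.map α₂).hom y := by
    have e : f ≫ α₂ = u ≫ biprod.snd := by rw [← hf, Category.assoc, biprod.lift_snd]
    rw [← map_comp_apply, e, map_comp_apply, key, map_add, ← map_comp_apply, ← map_comp_apply biprod.inr,
      biprod.inl_snd, biprod.inr_snd, map_id_apply, map_zero_apply, zero_add]
  rw [← sub_eq_zero]
  refine hinj _ ?_ ?_
  · rw [map_sub, h1, sub_self]
  · rw [map_sub, h2, sub_self]

end Groth.Agent.ResProp.EF.K351
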