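import Groth.Agent.ResProp.EF.K353.Defs2

/-!
# Localization of objects at a multiplicative set of natural numbers (OverZ, S16912)
-/

set_option autoImplicit false

universe w v u

open CategoryTheory CategoryTheory.Limits

namespace Groth.Agent.ResProp.EF.K351

open Classical in
/-- the product of the elements `< n` of `S` -/
noncomputable def cS (S : Submonoid ℕ) (n : ℕ) : ℕ := ∏ k ∈ (Finset.range n).filter (· ∈ S), k

lemma cS_mem (S : Submonoid ℕ) (n : ℕ) : cS S n ∈ S := by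
  classical
  exact Submonoid.prod_mem S fun k hk => (Finset.mem_filter.1 hk).2

lemma dvd_cS (S : Submonoid ℕ) {s n : ℕ} (hs : s ∈ S) (hn : s < n) : s ∣ cS S n := by
  classical
  exact Finset.dvd_prod_of_mem _ (Finset.mem_filter.2 ⟨Finset.mem_range.2 hn, hs⟩)

section seq

variable {𝒜 : Type v} [Category.{w} 𝒜] [Preadditive 𝒜]

/-- the sequence `X → X → X → ⋯` of multiplications by the `cS S n`. -/
noncomputable abbrev seqO (S : Submonoid ℕ) (X : 𝒜) : ℕ ⥤ 𝒜 where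
  obj _ := X
  map {n m} _ := ((∏ k ∈ Finset.Ico n m, cS S k : ℕ) : ℤ) • 𝟙 X
  map_id n := by simp
  map_comp {n m l} f g := by
    rw [Preadditive.zsmul_comp, Preadditive.comp_zsmul, Category.comp_id, smul_smul, ← Nat.cast_mul,
      Finset.prod_Ico_consecutive _ (leOfHom f) (leOfHom g)]

/-- functoriality of `seqO`. -/
noncomputable abbrev seqMap (S : Submonoid ℕ) {X Y : 𝒜} (f : X ⟶ Y) : seqO S X ⟶ seqO S Y where
  app _ := f
  naturality n m g := by
    change ((_ : ℤ) • 𝟙 X) ≫ f = f ≫ ((_ : ℤ) • 𝟙 Y)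
    rw [Preadditive.zsmul_comp, Preadditive.comp_zsmul, Category.comp_id, Category.id_comp]

variable (𝒜) in
/-- `X ↦ seqO S X` as a functor. -/
noncomputable abbrev seqF (S : Submonoid ℕ) : 𝒜 ⥤ (ℕ ⥤ 𝒜) where
  obj X := seqO S X
  map f := seqMap S f
  map_id X := by ext n; rfl
  map_comp f g := by ext n; rfl

variable [HasColimitsOfShape ℕ 𝒜]

variable (𝒜) in
/-- localization at `S` -/
noncomputable def locS (S : Submonoid ℕ) : 𝒜 ⥤ 𝒜 := seqF 𝒜 S ⋙ colim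

/-- the unit of the localization -/
noncomputable def ηX (S : Submonoid ℕ) (X : 𝒜) : X ⟶ (locS 𝒜 S).obj X := colimit.ι (seqO S X) 0

lemma ηX_nat (S : Submonoid ℕ) {X Y : 𝒜} (f : X ⟶ Y) : f ≫ ηX S Y = ηX S X ≫ (locS 𝒜 S).map f := by
  change f ≫ colimit.ι (seqO S Y) 0 = colimit.ι (seqO S X) 0 ≫ colimMap (seqMap S f)
  rw [ι_colimMap]

/-- the stages of the localization -/
noncomputable def ιS (S : Submonoid ℕ) (X : 𝒜) (n : ℕ) : X ⟶ (locS 𝒜 S).obj X := colimit.ι (seqO S X) n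

lemma ιS_zero (S : Submonoid ℕ) (X : 𝒜) : ιS S X 0 = ηX S X := rfl

lemma ιS_le (S : Submonoid ℕ) (X : 𝒜) {n m : ℕ} (h : n ≤ m) :
    ((∏ k ∈ Finset.Ico n m, cS S k : ℕ) : ℤ) • ιS S X m = ιS S X n := by
  have h1 : (((∏ k ∈ Finset.Ico n m, cS S k : ℕ) : ℤ) • 𝟙 X) ≫ ιS S X m = ιS S X n :=
    colimit.w (seqO S X) (homOfLE h)
  rwa [Preadditive.zsmul_comp, Category.id_comp] at h1

lemma ιS_map (S : Submonoid ℕ) {X Y : 𝒜} (f : X ⟶ Y) (n : ℕ) : ιS S X n ≫ (locS 𝒜 S).map f = f ≫ ιS S Y n := by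
  change colimit.ι (seqO S X) n ≫ colimMap (seqMap S f) = f ≫ colimit.ι (seqO S Y) n
  rw [ι_colimMap]

lemma loc_hom_ext (S : Submonoid ℕ) {X Z : 𝒜} {f g : (locS 𝒜 S).obj X ⟶ Z}
    (h : ∀ n, ιS S X n ≫ f = ιS S X n ≫ g) : f = g := colimit.hom_ext h

instance (S : Submonoid ℕ) : (locS 𝒜 S).Additive where
  map_add {X Y f g} := loc_hom_ext S fun n => by
    rw [ιS_map, Preadditive.comp_add, ιS_map, ιS_map, Preadditive.add_comp]

instance (S : Submonoid ℕ) {X Y : 𝒜} (f : X ⟶ Y) [Epi f] : Epi ((locS 𝒜 S).map f) := by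
  constructor
  intro Z g g' h
  refine loc_hom_ext S fun n => ?_
  have := ιS S X n ≫= h
  rw [← Category.assoc, ← Category.assoc, ιS_map, Category.assoc, Category.assoc] at this
  exact (cancel_epi f).1 this

lemma isZero_loc (S : Submonoid ℕ) {X : 𝒜} (hX : IsZero X) : IsZero ((locS 𝒜 S).obj X) := by
  rw [IsZero.iff_id_eq_zero]
  exact loc_hom_ext S fun n => hX.eq_of_src _ _

end seq

/-! ### localizations of modules -/

section mod

variable {R : Type u} [CommRing R]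

/-- `f : M → M'` is a localization at `S`. -/
structure IsLoc (S : Submonoid ℕ) {M M' : Type u} [AddCommGroup M] [AddCommGroup M'] (f : M →+ M') : Prop where
  inj : ∀ s ∈ S, ∀ z : M', (s : ℤ) • z = 0 → z = 0
  sur : ∀ s ∈ S, ∀ z : M', ∃ z' : M', (s : ℤ) • z' = z
  ker : ∀ x : M, f x = 0 → ∃ s ∈ S, (s : ℤ) • x = 0
  img : ∀ z : M', ∃ s ∈ S, ∃ x : M, f x = (s : ℤ) • z

variable {𝒜 : Type v} [Category.{w} 𝒜] [Preadditive 𝒜] [HasColimitsOfShape ℕ 𝒜]

theorem isLoc (S : Submonoid ℕ) (h : 𝒜 ⥤ ModuleCat.{u} R) [h.Additive] [PreservesColimitsOfShape ℕ h] (X : 𝒜) :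
    IsLoc S (h.map (ηX S X)).hom.toAddMonoidHom := by
  -- colimit cocone in modules
  have : PreservesFilteredColimitsOfSize.{0, 0} (forget (ModuleCat.{u} R)) :=
    preservesFilteredColimitsOfSize_shrink.{0, u, 0, u} _
  have : PreservesColimitsOfShape ℕ (forget (ModuleCat.{u} R)) :=
    PreservesFilteredColimitsOfSize.preserves_filtered_colimits ℕ
  have hc : IsColimit (h.mapCocone (colimit.cocone (seqO S X))) :=
    isColimitOfPreserves h (colimit.isColimit (seqO S X))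
  have hrep : ∀ z : h.obj ((locS 𝒜 S).obj X), ∃ (n : ℕ) (x : h.obj X), (h.map (ιS S X n)).hom x = z := by
    intro z
    obtain ⟨n, x, hx⟩ := Concrete.isColimit_exists_rep _ hc z
    exact ⟨n, x, hx⟩
  have hmap : ∀ {n m : ℕ} (hnm : n ≤ m) (x : h.obj X),
      ((seqO S X ⋙ h).map (homOfLE hnm)).hom x = ((∏ k ∈ Finset.Ico n m, cS S k : ℕ) : ℤ) • (x : h.obj X) := by
    intro n m hnm x
    change (h.map (((∏ k ∈ Finset.Ico n m, cS S k : ℕ) : ℤ) • 𝟙 X)).hom x = _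
    rw [h.map_zsmul, h.map_id]
    rfl
  have hker : ∀ (n : ℕ) (x : h.obj X), (h.map (ιS S X n)).hom x = 0 → ∃ (m : ℕ) (_ : n ≤ m),
      ((∏ k ∈ Finset.Ico n m, cS S k : ℕ) : ℤ) • x = 0 := by
    intro n x hx
    obtain ⟨k, f, g, hfg⟩ := Concrete.isColimit_exists_of_rep_eq (seqO S X ⋙ h) hc (i := n) (j := n) x
      (0 : h.obj X) (by
        change (h.map (ιS S X n)).hom x = (h.map (ιS S X n)).hom 0
        rw [hx, map_zero])
    refine ⟨k, leOfHom f, ?_⟩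
    have e1 := hmap (leOfHom f) x
    have e2 : ((seqO S X ⋙ h).map g).hom (0 : h.obj X) = 0 := map_zero _
    rw [← e1]
    exact hfg.trans e2
  have hmem : ∀ n m : ℕ, (∏ k ∈ Finset.Ico n m, cS S k) ∈ S := fun n m => Submonoid.prod_mem S fun k _ => cS_mem S k
  have hle : ∀ {n m : ℕ} (_ : n ≤ m) (x : h.obj X), (h.map (ιS S X n)).hom x =
      (h.map (ιS S X m)).hom (((∏ k ∈ Finset.Ico n m, cS S k : ℕ) : ℤ) • x) := by
    intro n m hnm x
    rw [← ιS_le S X hnm, h.map_zsmul, map_zsmul]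
    rfl
  have hdvd : ∀ s ∈ S, ∀ n : ℕ, ∃ (m : ℕ) (_ : n ≤ m) (t : ℕ), (∏ k ∈ Finset.Ico n m, cS S k) = s * t := by
    intro s hs n
    refine ⟨max n (s + 1) + 1, by omega, ?_⟩
    have h1 : cS S (max n (s + 1)) ∣ ∏ k ∈ Finset.Ico n (max n (s + 1) + 1), cS S k :=
      Finset.dvd_prod_of_mem _ (Finset.mem_Ico.2 ⟨le_max_left _ _, Nat.lt_succ_self _⟩)
    obtain ⟨t, ht⟩ := (dvd_cS S hs (lt_of_lt_of_le (Nat.lt_succ_self s) (le_max_right n (s + 1)))).trans h1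
    exact ⟨t, ht⟩
  refine ⟨?_, ?_, ?_, ?_⟩
  · intro s hs z hz
    obtain ⟨n, x, rfl⟩ := hrep z
    obtain ⟨m, hnm, hm⟩ := hker n ((s : ℤ) • x) (by rw [map_zsmul]; exact hz)
    obtain ⟨m', hm', t, ht⟩ := hdvd s hs m
    rw [hle (hnm.trans hm') x]
    have e : ((∏ k ∈ Finset.Ico n m', cS S k : ℕ) : ℤ) • x = 0 := by
      rw [← Finset.prod_Ico_consecutive _ hnm hm', ht]
      have : (((∏ k ∈ Finset.Ico n m, cS S k) * (s * t) : ℕ) : ℤ) • x =
          (t : ℤ) • (((∏ k ∈ Finset.Ico n m, cS S k : ℕ) : ℤ) • ((s : ℤ) • x)) := by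
        rw [smul_smul, smul_smul]
        congr 1
        push_cast
        ring
      rw [this, hm, smul_zero]
    rw [e, map_zero]
  · intro s hs z
    obtain ⟨n, x, rfl⟩ := hrep z
    obtain ⟨m, hnm, t, ht⟩ := hdvd s hs n
    refine ⟨(h.map (ιS S X m)).hom ((t : ℤ) • x), ?_⟩
    rw [hle hnm x, ht, ← map_zsmul, smul_smul]
    congr 2
  · intro x hx
    obtain ⟨m, _, hm⟩ := hker 0 x hx
    exact ⟨_, hmem 0 m, hm⟩
  · intro z
    obtain ⟨n, x, rfl⟩ := hrep z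
    refine ⟨_, hmem 0 n, x, ?_⟩
    change (h.map (ιS S X 0)).hom x = _
    rw [hle (Nat.zero_le n) x, map_zsmul]

end mod

end Groth.Agent.ResProp.EF.K351
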