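import Groth.Agent.ResProp.EF.K351.Loc
import Groth.Agent.ResProp.EF.K351.Glue
import Mathlib.Algebra.Homology.HomologicalComplexAbelian

/-!
# The square `M → M[1/q], M_(q) → M[1/q]_(q)` (OverZ, S16912)
-/

set_option autoImplicit false
set_option linter.unusedSectionVars false

universe w v u

open CategoryTheory CategoryTheory.Limits

namespace Groth.Agent.ResProp.EF.K351

/-- numbers prime to `q` -/
def cop (q : ℕ) : Submonoid ℕ where
  carrier := {n | n.Coprime q}
  mul_mem' ha hb := Nat.Coprime.mul_left ha hb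
  one_mem' := Nat.coprime_one_left q

lemma mem_cop {q n : ℕ} : n ∈ cop q ↔ n.Coprime q := Iff.rfl

lemma bezout {q a b : ℕ} (ha : a ∈ cop q) (hb : b ∈ Submonoid.powers q) : ∃ s t : ℤ, s * a + t * b = 1 := by
  obtain ⟨k, rfl⟩ := hb
  have h : IsCoprime (a : ℤ) ((q ^ k : ℕ) : ℤ) :=
    Nat.isCoprime_iff_coprime.2 (Nat.Coprime.pow_right k (mem_cop.1 ha))
  obtain ⟨s, t, h⟩ := h
  exact ⟨s, t, h⟩

section ab

variable {q : ℕ} {M M₁ M₂ M₁₂ : Type u} [AddCommGroup M] [AddCommGroup M₁] [AddCommGroup M₂] [AddCommGroup M₁₂]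
  {f₁ : M →+ M₁} {f₂ : M →+ M₂} {g₁ : M₁ →+ M₁₂} {g₂ : M₂ →+ M₁₂}

theorem sq_inj (h₁ : IsLoc (Submonoid.powers q) f₁) (h₂ : IsLoc (cop q) f₂) (x : M) (e₁ : f₁ x = 0)
    (e₂ : f₂ x = 0) : x = 0 := by
  obtain ⟨b, hb, hbx⟩ := h₁.ker x e₁
  obtain ⟨a, ha, hax⟩ := h₂.ker x e₂
  obtain ⟨s, t, hst⟩ := bezout ha hb
  calc x = (s * a + t * b : ℤ) • x := by rw [hst, one_smul]
    _ = s • ((a : ℤ) • x) + t • ((b : ℤ) • x) := by rw [add_smul, mul_smul, mul_smul]
    _ = 0 := by rw [hax, hbx, smul_zero, smul_zero, add_zero]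

theorem sq_mid (h₁ : IsLoc (Submonoid.powers q) f₁) (h₂ : IsLoc (cop q) f₂) (k₁ : IsLoc (cop q) g₁)
    (comm : ∀ x, g₁ (f₁ x) = g₂ (f₂ x)) (u : M₁) (v : M₂) (huv : g₁ u = g₂ v) :
    ∃ x : M, f₁ x = u ∧ f₂ x = v := by
  obtain ⟨b, hb, x₁, hx₁⟩ := h₁.img u
  obtain ⟨a, ha, x₂, hx₂⟩ := h₂.img v
  have e1 : g₁ (f₁ ((a : ℤ) • x₁ - (b : ℤ) • x₂)) = 0 := by
    rw [map_sub, map_sub, map_zsmul, map_zsmul, map_zsmul, map_zsmul, hx₁, comm x₂, hx₂, map_zsmul, map_zsmul, huv,
      smul_comm, sub_self]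
  obtain ⟨a', ha', e2⟩ := k₁.ker _ e1
  rw [← map_zsmul] at e2
  obtain ⟨b', hb', e3⟩ := h₁.ker _ e2
  -- replace `x₁`, `x₂`
  have e4 : ((a * a' : ℕ) : ℤ) • ((b' : ℤ) • x₁) = ((b * b' : ℕ) : ℤ) • ((a' : ℤ) • x₂) := by
    rw [smul_sub, smul_sub, sub_eq_zero] at e3
    push_cast
    simp only [smul_smul] at e3 ⊢
    rw [show (a : ℤ) * a' * b' = b' * (a' * a) by ring, e3]
    congr 1
    ring
  obtain ⟨s, t, hst⟩ := bezout (q := q) (a := a * a') (b := b * b') ((cop q).mul_mem ha ha')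
    ((Submonoid.powers q).mul_mem hb hb')
  refine ⟨s • ((a' : ℤ) • x₂) + t • ((b' : ℤ) • x₁), ?_, ?_⟩
  · rw [← sub_eq_zero]
    refine h₁.inj (b * b') ((Submonoid.powers q).mul_mem hb hb') _ ?_
    rw [smul_sub, ← map_zsmul, smul_add, smul_comm _ s, ← e4, smul_comm _ t]
    have : s • ((a * a' : ℕ) : ℤ) • ((b' : ℤ) • x₁) + t • ((b * b' : ℕ) : ℤ) • ((b' : ℤ) • x₁) = (b' : ℤ) • x₁ := by
      rw [smul_smul s, smul_smul t, ← add_smul, hst, one_smul]
    rw [this, map_zsmul, hx₁, smul_smul]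
    push_cast
    rw [mul_comm (b' : ℤ), sub_self]
  · rw [← sub_eq_zero]
    refine h₂.inj (a * a') ((cop q).mul_mem ha ha') _ ?_
    rw [smul_sub, ← map_zsmul, smul_add, smul_comm _ s, smul_comm _ t, e4]
    have : s • ((a * a' : ℕ) : ℤ) • ((a' : ℤ) • x₂) + t • ((b * b' : ℕ) : ℤ) • ((a' : ℤ) • x₂) = (a' : ℤ) • x₂ := by
      rw [smul_smul s, smul_smul t, ← add_smul, hst, one_smul]
    rw [this, map_zsmul, hx₂, smul_smul]
    push_cast
    rw [mul_comm (a' : ℤ), sub_self]

theorem sq_sur (h₁ : IsLoc (Submonoid.powers q) f₁) (h₂ : IsLoc (cop q) f₂) (k₁ : IsLoc (cop q) g₁)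
    (comm : ∀ x, g₁ (f₁ x) = g₂ (f₂ x)) (z : M₁₂) : ∃ (u : M₁) (v : M₂), z = g₁ u + g₂ v := by
  obtain ⟨a, ha, u, hu⟩ := k₁.img z
  obtain ⟨b, hb, x, hx⟩ := h₁.img u
  obtain ⟨v, hv⟩ := h₂.sur a ha (f₂ x)
  obtain ⟨s, t, hst⟩ := bezout ha hb
  have e : (b : ℤ) • z = g₂ v := by
    rw [← sub_eq_zero]
    refine k₁.inj a ha _ ?_
    rw [smul_sub, smul_comm, ← hu, ← map_zsmul, ← hx, comm, ← map_zsmul g₂, hv, sub_self]
  refine ⟨s • u, t • v, ?_⟩
  rw [map_zsmul, map_zsmul, hu, ← e, smul_smul, smul_smul, ← add_smul, hst, one_smul]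

end ab

section cx

variable {C : Type v} [Category.{w} C] [Abelian C] {R : Type u} [CommRing R]

/-- short exactness of a complex of complexes can be tested on elements after an exact faithful functor. -/
theorem shortExact_of_elem (us : C ⥤ ModuleCat.{u} R) [us.Additive] [PreservesFiniteLimits us]
    [PreservesFiniteColimits us] [us.Faithful] (S : ShortComplex (CochainComplex C ℤ))
    (hinj : ∀ i, Function.Injective (us.map (S.f.f i)).hom)
    (hmid : ∀ i (y : us.obj (S.X₂.X i)), (us.map (S.g.f i)).hom y = 0 → ∃ x, (us.map (S.f.f i)).hom x = y)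
    (hsur : ∀ i, Function.Surjective (us.map (S.g.f i)).hom) : S.ShortExact := by
  refine HomologicalComplex.shortExact_of_degreewise_shortExact S fun i => ?_
  refine { exact := ?_, mono_f := ?_, epi_g := ?_ }
  · rw [← ShortComplex.exact_map_iff_of_faithful _ us, ShortComplex.moduleCat_exact_iff]
    exact fun y hy => hmid i y hy
  · have : Mono (us.map (S.f.f i)) := (ModuleCat.mono_iff_injective _).2 (hinj i)
    exact us.mono_of_mono_map this
  · have : Epi (us.map (S.g.f i)) := (ModuleCat.epi_iff_surjective _).2 (hsur i)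
    exact us.epi_of_epi_map this

/-- the `i`-th term as a functor to modules -/
noncomputable abbrev evU (us : C ⥤ ModuleCat.{u} R) (i : ℤ) : CochainComplex C ℤ ⥤ ModuleCat.{u} R :=
  HomologicalComplex.eval C (ComplexShape.up ℤ) i ⋙ us

variable [HasColimitsOfShape ℕ C]

/-- inverting `q` -/
noncomputable abbrev L₁ (C : Type v) [Category.{w} C] [Abelian C] [HasColimitsOfShape ℕ C] (q : ℕ) :
    CochainComplex C ℤ ⥤ CochainComplex C ℤ := locS _ (Submonoid.powers q)

/-- localization at the prime number `q` -/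
noncomputable abbrev L₂ (C : Type v) [Category.{w} C] [Abelian C] [HasColimitsOfShape ℕ C] (q : ℕ) :
    CochainComplex C ℤ ⥤ CochainComplex C ℤ := locS _ (cop q)

variable (us : C ⥤ ModuleCat.{u} R) [us.Additive] [PreservesFiniteLimits us]
    [PreservesFiniteColimits us] [us.Faithful] [PreservesColimitsOfShape ℕ us]

theorem sq_comm (q : ℕ) (Y : CochainComplex C ℤ) :
    ηX (Submonoid.powers q) Y ≫ ηX (cop q) ((L₁ C q).obj Y) =
      ηX (cop q) Y ≫ (L₂ C q).map (ηX (Submonoid.powers q) Y) :=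
  ηX_nat (cop q) (ηX (Submonoid.powers q) Y)

theorem sq_zero (q : ℕ) (Y : CochainComplex C ℤ) :
    biprod.lift (ηX (Submonoid.powers q) Y) (ηX (cop q) Y) ≫
      biprod.desc (ηX (cop q) ((L₁ C q).obj Y)) (-(L₂ C q).map (ηX (Submonoid.powers q) Y)) = 0 := by
  rw [biprod.lift_desc, Preadditive.comp_neg, sq_comm, add_neg_cancel]

include us in
theorem sq_shortExact (q : ℕ) (Y : CochainComplex C ℤ) : (ShortComplex.mk _ _ (sq_zero q Y)).ShortExact := by
  set α₁ := ηX (Submonoid.powers q) Y with hα₁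
  set α₂ := ηX (cop q) Y with hα₂
  set b₁ := ηX (cop q) ((L₁ C q).obj Y) with hb₁
  set b₂ := (L₂ C q).map (ηX (Submonoid.powers q) Y) with hb₂
  have h₁ : ∀ i, IsLoc (Submonoid.powers q) ((evU us i).map α₁).hom.toAddMonoidHom := fun i => isLoc _ (evU us i) Y
  have h₂ : ∀ i, IsLoc (cop q) ((evU us i).map α₂).hom.toAddMonoidHom := fun i => isLoc _ (evU us i) Y
  have k₁ : ∀ i, IsLoc (cop q) ((evU us i).map b₁).hom.toAddMonoidHom := fun i => isLoc _ (evU us i) _
  have comm : ∀ i (x : us.obj (Y.X i)), ((evU us i).map b₁).hom (((evU us i).map α₁).hom x) =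
      ((evU us i).map b₂).hom (((evU us i).map α₂).hom x) := by
    intro i x
    rw [← map_comp_apply (h := evU us i), ← map_comp_apply (h := evU us i), sq_comm]
  have dec : ∀ i (z : (evU us i).obj ((L₁ C q).obj Y ⊞ (L₂ C q).obj Y)),
      z = ((evU us i).map biprod.inl).hom (((evU us i).map biprod.fst).hom z) +
        ((evU us i).map biprod.inr).hom (((evU us i).map biprod.snd).hom z) := by
    intro i z
    rw [← map_comp_apply (h := evU us i), ← map_comp_apply (h := evU us i)]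
    have := congrArg (fun f => ((evU us i).map f).hom z)
      (biprod.total (X := (L₁ C q).obj Y) (Y := (L₂ C q).obj Y))
    simp only [(evU us i).map_add, (evU us i).map_id] at this
    exact this.symm
  refine shortExact_of_elem us _ ?_ ?_ ?_
  · intro i
    refine (injective_iff_map_eq_zero (us.map ((biprod.lift α₁ α₂).f i)).hom).2 fun x hx => ?_
    refine sq_inj (h₁ i) (h₂ i) x ?_ ?_
    · change ((evU us i).map α₁).hom x = 0
      have : α₁ = biprod.lift α₁ α₂ ≫ biprod.fst := by rw [biprod.lift_fst]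
      rw [this, map_comp_apply (h := evU us i)]
      exact (congrArg _ hx).trans (map_zero _)
    · change ((evU us i).map α₂).hom x = 0
      have : α₂ = biprod.lift α₁ α₂ ≫ biprod.snd := by rw [biprod.lift_snd]
      rw [this, map_comp_apply (h := evU us i)]
      exact (congrArg _ hx).trans (map_zero _)
  · intro i z hz
    have hz' : ((evU us i).map (biprod.desc b₁ (-b₂))).hom z = 0 := hz
    obtain ⟨x, hx1, hx2⟩ := sq_mid (g₂ := ((evU us i).map b₂).hom.toAddMonoidHom) (h₁ i) (h₂ i) (k₁ i) (comm i) (((evU us i).map biprod.fst).hom z)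
      (((evU us i).map biprod.snd).hom z) (by
        rw [dec i z, map_add, ← map_comp_apply (h := evU us i), ← map_comp_apply (h := evU us i) biprod.inr,
          biprod.inl_desc, biprod.inr_desc, map_neg_apply (h := evU us i), add_neg_eq_zero] at hz'
        exact hz')
    refine ⟨x, ?_⟩
    change ((evU us i).map (biprod.lift α₁ α₂)).hom x = z
    rw [dec i z, dec i (((evU us i).map (biprod.lift α₁ α₂)).hom x), ← map_comp_apply (h := evU us i) _ biprod.fst,
      ← map_comp_apply (h := evU us i) _ biprod.snd, biprod.lift_fst, biprod.lift_snd]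
    exact congrArg₂ (· + ·) (congrArg _ hx1) (congrArg _ hx2)
  · intro i z
    obtain ⟨u, v, e⟩ := sq_sur (g₂ := ((evU us i).map b₂).hom.toAddMonoidHom) (h₁ i) (h₂ i) (k₁ i) (comm i) z
    have key : ((evU us i).map (biprod.desc b₁ (-b₂))).hom (((evU us i).map biprod.inl).hom u -
        ((evU us i).map biprod.inr).hom v) = z := by
      rw [map_sub, ← map_comp_apply (h := evU us i), ← map_comp_apply (h := evU us i) biprod.inr,
        biprod.inl_desc, biprod.inr_desc, map_neg_apply (h := evU us i), sub_neg_eq_add]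
      exact e.symm
    exact ⟨_, key⟩

end cx

end Groth.Agent.ResProp.EF.K351
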